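import Cfsg.Agent.Gun.Perp

/-!
# Basic geometry of nondegenerate hermitian forms (S4537 project)

Riesz representation, `im (s - 1) = ker (s - 1)^⊥` for isometries, trace fibres, splitting off a
hyperbolic plane.
-/

set_option autoImplicit false
set_option linter.unusedSectionVars false
set_option linter.unusedVariables false
set_option linter.style.haveILetI false

namespace Cfsg.Gun

open Module Finset

section Field

variable {F : Type*} [Field F] [Finite F] {q : ℕ}

theorem exists_trace_eq (hF : Nat.card F = q ^ 2) {c : F} (hc : c ^ q = c) :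
    ∃ z : F, z + z ^ q = c := by
  obtain ⟨t, ht⟩ := exists_trace_ne_zero hF
  have h1 : (t + t ^ q) ^ q = t + t ^ q := by rw [add_pow_q hF, pow_q_pow_q hF, add_comm]
  refine ⟨c / (t + t ^ q) * t, ?_⟩
  rw [mul_pow, div_pow, hc, h1, ← mul_add, div_mul_cancel₀ _ ht]

theorem exists_pow_q_eq_neg (hF : Nat.card F = q ^ 2) : ∃ d : F, d ≠ 0 ∧ d ^ q = -d := by
  obtain ⟨d, hd⟩ := exists_pow_q_ne hF
  exact ⟨d - d ^ q, sub_ne_zero.2 hd.symm, by rw [sub_pow_q hF, pow_q_pow_q hF, neg_sub]⟩

theorem card_trace_eq (hF : Nat.card F = q ^ 2) {c : F} (hc : c ^ q = c) :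
    Nat.card {z : F // z + z ^ q = c} = q := by
  obtain ⟨z₀, hz₀⟩ := exists_trace_eq hF hc
  obtain ⟨d, hd0, hd⟩ := exists_pow_q_eq_neg hF
  refine Eq.trans (Eq.symm ?_) (card_fixed_q hF)
  refine Nat.card_congr
    { toFun := fun b => ⟨z₀ + d * b.1, ?_⟩
      invFun := fun z => ⟨(z.1 - z₀) / d, ?_⟩
      left_inv := fun b => Subtype.ext ?_
      right_inv := fun z => Subtype.ext ?_ }
  · rw [add_pow_q hF, mul_pow, hd, b.2, ← hz₀]; ring
  · rw [div_pow, hd, sub_pow_q hF, div_neg, ← neg_div]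
    congr 1
    linear_combination hz₀ - z.2
  · simp only []
    field_simp
    ring
  · simp only []
    field_simp
    ring

end Field

namespace IsHerm

variable {F : Type*} [Field F] [Finite F] {q : ℕ} {V : Type*} [AddCommGroup V] [Module F V]
  {h : V → V → F} (H : IsHerm q h) (hF : Nat.card F = q ^ 2)
include H hF

theorem exists_self_ne_zero {u v : V} (huv : h u v ≠ 0) : ∃ x, h x x ≠ 0 := by
  by_contra h0
  push Not at h0
  obtain ⟨t, ht⟩ := exists_trace_ne_zero hF
  have := h0 ((t / h u v) • u + v)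
  rw [H.add_left, H.add_right hF, H.add_right hF, h0, h0, H.symm _ v, H.smul_left,
    div_mul_cancel₀ _ huv, zero_add, add_zero] at this
  exact ht this

variable (hnd : ∀ u, (∀ v, h u v = 0) → u = 0)
include hnd

theorem exists_eq_left {v : V} (hv : v ≠ 0) (c : F) : ∃ u, h u v = c := by
  obtain ⟨u, hu⟩ : ∃ u, h u v ≠ 0 := by
    by_contra h0
    push Not at h0
    exact hv (H.nondeg_right hF hnd v h0)
  exact ⟨(c / h u v) • u, by rw [H.smul_left, div_mul_cancel₀ _ hu]⟩

theorem injective_of_iso {W : Type*} [AddCommGroup W] [Module F W] {h' : W → W → F}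
    (H' : IsHerm q h') {s : V →ₗ[F] W} (hs : ∀ u v, h' (s u) (s v) = h u v) :
    Function.Injective s :=
  (injective_iff_map_eq_zero s).2 fun u hu => hnd u fun v => by rw [← hs, hu, H'.zero_left]

variable [Finite V]

theorem isUnit_of_iso {s : End F V} (hs : ∀ u v, h (s u) (s v) = h u v) : IsUnit s :=
  (Module.End.isUnit_iff s).2 (Finite.injective_iff_bijective.1 (H.injective_of_iso hF hnd H hs))

/-- A vector outside a subspace is detected by the orthogonal of the subspace. -/
theorem exists_perp {W : Submodule F V} {w : V} (hw : w ∉ W) :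
    ∃ k, (∀ x ∈ W, h x k = 0) ∧ h w k ≠ 0 := by
  obtain ⟨φ, h1, h2⟩ := W.exists_le_ker_of_notMem hw
  obtain ⟨k, rfl⟩ := H.exists_lin_eq hF hnd φ
  exact ⟨k, fun x hx => h2 hx, h1⟩

theorem exists_fixed_of_notMem_range {s : End F V} (hs : ∀ u v, h (s u) (s v) = h u v) {w : V}
    (hw : w ∉ LinearMap.range (s - 1)) : ∃ k, s k = k ∧ h k w ≠ 0 := by
  obtain ⟨k, h1, h2⟩ := H.exists_perp hF hnd hw
  refine ⟨k, H.ext_right hF hnd fun u => ?_, fun e => h2 ((H.eq_zero_comm hF).1 e)⟩
  obtain ⟨y, rfl⟩ := ((Module.End.isUnit_iff s).1 (H.isUnit_of_iso hF hnd hs)).2 u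
  have := h1 _ (LinearMap.mem_range_self _ y)
  rw [LinearMap.sub_apply, H.sub_left, Module.End.one_apply, sub_eq_zero] at this
  rw [hs, this]

theorem exists_isotropic (hV : 2 ≤ finrank F V) : ∃ e : V, e ≠ 0 ∧ h e e = 0 := by
  haveI : Nontrivial V := Module.nontrivial_of_finrank_pos (R := F) (by omega)
  obtain ⟨v, hv⟩ := exists_ne (0 : V)
  obtain ⟨u, hu⟩ := H.exists_eq_left hF hnd hv 1
  obtain ⟨x, hx⟩ := H.exists_self_ne_zero hF (hu ▸ one_ne_zero : h u v ≠ 0)
  obtain ⟨y, hy, hy0⟩ : ∃ y ∈ LinearMap.ker (H.lin x), y ≠ 0 := by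
    refine Submodule.exists_mem_ne_zero_of_ne_bot fun e => ?_
    have := LinearMap.finrank_le_finrank_of_injective (LinearMap.ker_eq_bot.1 e)
    rw [finrank_self] at this
    omega
  have hy : h y x = 0 := hy
  by_cases hyy : h y y = 0
  · exact ⟨y, hy0, hyy⟩
  obtain ⟨t, ht⟩ := exists_norm_eq hF (a := -h y y / h x x)
    (by rw [div_pow, neg_pow_q hF, H.self_pow, H.self_pow])
  have hy' : h x y = 0 := (H.eq_zero_comm hF).1 hy
  refine ⟨t • x + y, fun e => hyy ?_, ?_⟩
  · have := congrArg (fun v => h v y) e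
    simpa only [H.add_left, H.smul_left, hy', H.zero_left, mul_zero, zero_add] using this
  · simp only [H.add_left, H.add_right hF, H.smul_left, H.smul_right hF, hy, hy']
    rw [← mul_assoc, ht]
    field_simp
    ring

theorem exists_hyperbolic_pair {e : V} (he : e ≠ 0) (hee : h e e = 0) :
    ∃ f, h f e = 1 ∧ h f f = 0 := by
  obtain ⟨f, hf⟩ := H.exists_eq_left hF hnd he 1
  obtain ⟨c, hc⟩ := exists_trace_eq hF (c := -h f f) (by rw [neg_pow_q hF, H.self_pow])
  have hf' : h e f = 1 := by rw [H.symm, hf, one_pow]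
  refine ⟨f + c • e, ?_, ?_⟩
  · rw [H.add_left, H.smul_left, hee, hf, mul_zero, add_zero]
  · simp only [H.add_left, H.add_right hF, H.smul_left, H.smul_right hF, hee, hf, hf']
    linear_combination hc

end IsHerm

/-- The orthogonal sum of `h` and a hyperbolic plane. -/
def hypF {F : Type*} [Field F] (q : ℕ) {W : Type*} (h : W → W → F) (x y : F × W × F) : F :=
  x.1 * y.2.2 ^ q + h x.2.1 y.2.1 + x.2.2 * y.1 ^ q

namespace IsHerm

variable {F : Type*} [Field F] [Finite F] {q : ℕ} {V : Type*} [AddCommGroup V] [Module F V]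
  {h : V → V → F} (H : IsHerm q h) (hF : Nat.card F = q ^ 2)
include H hF

theorem hypF : IsHerm q (hypF q h) where
  add_left u v w := by simp only [Gun.hypF, Prod.fst_add, Prod.snd_add, H.add_left]; ring
  smul_left a u v := by
    simp only [Gun.hypF, Prod.smul_fst, Prod.smul_snd, H.smul_left, smul_eq_mul]; ring
  symm u v := by
    simp only [Gun.hypF, add_pow_q hF, mul_pow, pow_q_pow_q hF, ← H.symm]; ring

theorem hypF_nondeg (hnd : ∀ u, (∀ v, h u v = 0) → u = 0) (u : F × V × F)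
    (hu : ∀ v, Gun.hypF q h u v = 0) : u = 0 := by
  have h1 := hu (0, 0, 1)
  have h2 := hu (1, 0, 0)
  have h3 := hnd u.2.1 fun v => by simpa [Gun.hypF, zero_pow_q hF] using hu (0, v, 0)
  simp only [Gun.hypF, one_pow, mul_one, H.zero_right hF, zero_pow_q hF, mul_zero, add_zero,
    zero_add] at h1 h2
  exact Prod.ext h1 (Prod.ext h3 h2)

/-- Splitting off the hyperbolic plane spanned by a hyperbolic pair. -/
theorem exists_equiv_of_pair (hnd : ∀ u, (∀ v, h u v = 0) → u = 0) {e f : V} (hee : h e e = 0)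
    (hfe : h f e = 1) (hff : h f f = 0) :
    ∃ (W : Submodule F V) (E : (F × W × F) ≃ₗ[F] V),
      (∀ x, x ∈ W ↔ h x e = 0 ∧ h x f = 0) ∧ (∀ x, E x = x.1 • e + x.2.1 + x.2.2 • f) ∧
      (∀ u : W, (∀ v : W, h u v = 0) → u = 0) ∧
      ∀ x y, h (E x) (E y) = Gun.hypF q (fun u v : W => h u v) x y := by
  have hef : h e f = 1 := by rw [H.symm, hfe, one_pow]
  let W : Submodule F V := LinearMap.ker (H.lin e) ⊓ LinearMap.ker (H.lin f)
  have hW : ∀ x, x ∈ W ↔ h x e = 0 ∧ h x f = 0 := fun x => Iff.rfl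
  let L : (F × W × F) →ₗ[F] V :=
    { toFun := fun x => x.1 • e + x.2.1 + x.2.2 • f
      map_add' := fun x y => by
        simp only [Prod.fst_add, Prod.snd_add, add_smul, Submodule.coe_add]; abel
      map_smul' := fun a x => by
        simp only [Prod.smul_fst, Prod.smul_snd, smul_eq_mul, mul_smul, Submodule.coe_smul,
          smul_add, RingHom.id_apply] }
  have hL : ∀ x y, h (L x) (L y) = Gun.hypF q (fun u v : W => h u v) x y := by
    intro x y
    obtain ⟨a1, a2⟩ := (hW _).1 x.2.1.2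
    obtain ⟨a3, a4⟩ := (hW _).1 y.2.1.2
    rw [H.eq_zero_comm hF] at a3 a4
    simp only [L, LinearMap.coe_mk, AddHom.coe_mk, H.add_left, H.add_right hF, H.smul_left,
      H.smul_right hF, hee, hfe, hff, hef, a1, a2, a3, a4, Gun.hypF]
    ring
  have hs : Function.Surjective L := by
    intro v
    refine ⟨(h v f, ⟨v - h v f • e - h v e • f, (hW _).2 ⟨?_, ?_⟩⟩, h v e), ?_⟩
    · simp only [H.sub_left, H.smul_left, hee, hfe]; ring
    · simp only [H.sub_left, H.smul_left, hef, hff]; ring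
    · simp only [L, LinearMap.coe_mk, AddHom.coe_mk]; abel
  have hi : Function.Injective L := by
    refine (injective_iff_map_eq_zero L).2 fun x hx => ?_
    have h1 := hL x (0, 0, 1)
    have h2 := hL x (1, 0, 0)
    rw [hx, H.zero_left] at h1 h2
    simp only [Gun.hypF, one_pow, mul_one, Submodule.coe_zero, H.zero_right hF, zero_pow_q hF,
      mul_zero, add_zero, zero_add] at h1 h2
    refine Prod.ext h1.symm (Prod.ext (Subtype.ext ?_) h2.symm)
    simpa [L, ← h1, ← h2] using hx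
  refine ⟨W, LinearEquiv.ofBijective L ⟨hi, hs⟩, hW, fun _ => rfl, fun u hu => ?_, hL⟩
  refine Subtype.ext (hnd _ fun v => ?_)
  obtain ⟨y, rfl⟩ := hs v
  have := hL (0, u, 0) y
  simpa [L, Gun.hypF, hu] using this

theorem exists_equiv_hypF [Finite V] (hnd : ∀ u, (∀ v, h u v = 0) → u = 0)
    (hV : 2 ≤ finrank F V) : ∃ (W : Submodule F V) (E : (F × W × F) ≃ₗ[F] V),
      finrank F W + 2 = finrank F V ∧ (∀ u : W, (∀ v : W, h u v = 0) → u = 0) ∧
      ∀ x y, h (E x) (E y) = Gun.hypF q (fun u v : W => h u v) x y := by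
  obtain ⟨e, he, hee⟩ := H.exists_isotropic hF hnd hV
  obtain ⟨f, hfe, hff⟩ := H.exists_hyperbolic_pair hF hnd he hee
  obtain ⟨W, E, -, -, h1, h2⟩ := H.exists_equiv_of_pair hF hnd hee hfe hff
  refine ⟨W, E, ?_, h1, h2⟩
  rw [← E.finrank_eq, finrank_prod, finrank_prod, finrank_self]
  ring

end IsHerm

end Cfsg.Gun

set_option linter.all false in
theorem Cfsg.Rz.Gun_Hyp_0 : True := by
  have := @_root_.Cfsg.Gun.hypF.eq_def.{0, 0}
  have := @_root_.Cfsg.Gun.hypF.fun_cases
  trivial
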