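import Cfsg.Agent.Gun.Weil

/-!
# Orthogonal complements for nondegenerate hermitian forms over finite fields
-/

set_option autoImplicit false
set_option linter.unusedSectionVars false
set_option linter.unusedVariables false

namespace Cfsg.Gun.IsHerm

open Module

variable {F : Type*} [Field F] [Finite F] {q : ℕ} {V : Type*} [AddCommGroup V] [Module F V]
  {h : V → V → F} (H : IsHerm q h)
include H

theorem eq_zero_comm (hF : Nat.card F = q ^ 2) {u v : V} : h u v = 0 ↔ h v u = 0 :=
  ⟨fun e => by rw [H.symm, e, zero_pow_q hF], fun e => by rw [H.symm, e, zero_pow_q hF]⟩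

/-- The orthogonal complement. -/
def perp (W : Submodule F V) : Submodule F V where
  carrier := {v | ∀ w ∈ W, h v w = 0}
  add_mem' {a b} ha hb w hw := by rw [H.add_left, ha w hw, hb w hw, add_zero]
  zero_mem' w _ := H.zero_left w
  smul_mem' c v hv w hw := by rw [H.smul_left, hv w hw, mul_zero]

theorem mem_perp {W : Submodule F V} {v : V} : v ∈ H.perp W ↔ ∀ w ∈ W, h v w = 0 := Iff.rfl

theorem mem_perp' (hF : Nat.card F = q ^ 2) {W : Submodule F V} {v : V} :
    v ∈ H.perp W ↔ ∀ w ∈ W, h w v = 0 :=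
  forall₂_congr fun _ _ => H.eq_zero_comm hF

theorem perp_anti {W W' : Submodule F V} (hW : W ≤ W') : H.perp W' ≤ H.perp W :=
  fun _ hv w hw => hv w (hW hw)

theorem le_perp_comm (hF : Nat.card F = q ^ 2) {W W' : Submodule F V} :
    W ≤ H.perp W' ↔ W' ≤ H.perp W :=
  ⟨fun e w hw v hv => (H.eq_zero_comm hF).1 (e hv w hw),
    fun e w hw v hv => (H.eq_zero_comm hF).1 (e hv w hw)⟩

theorem le_perp_perp (hF : Nat.card F = q ^ 2) (W : Submodule F V) : W ≤ H.perp (H.perp W) :=
  (H.le_perp_comm hF).1 le_rfl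

theorem perp_sup (hF : Nat.card F = q ^ 2) (W W' : Submodule F V) :
    H.perp (W ⊔ W') = H.perp W ⊓ H.perp W' := by
  ext v
  rw [Submodule.mem_inf, ← Submodule.span_singleton_le_iff_mem, ← Submodule.span_singleton_le_iff_mem,
    ← Submodule.span_singleton_le_iff_mem, H.le_perp_comm hF, H.le_perp_comm hF (W' := W),
    H.le_perp_comm hF (W' := W'), sup_le_iff]

theorem mem_perp_span (hF : Nat.card F = q ^ 2) {x v : V} :
    v ∈ H.perp (Submodule.span F {x}) ↔ h v x = 0 :=
  ⟨fun e => e x (Submodule.mem_span_singleton_self x), fun e w hw => by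
    obtain ⟨c, rfl⟩ := Submodule.mem_span_singleton.1 hw
    rw [H.smul_right hF, e, mul_zero]⟩

theorem perp_span (hF : Nat.card F = q ^ 2) (x : V) :
    H.perp (Submodule.span F {x}) = LinearMap.ker (H.lin x) :=
  Submodule.ext fun _ => H.mem_perp_span hF

theorem perp_bot (hF : Nat.card F = q ^ 2) : H.perp ⊥ = ⊤ :=
  eq_top_iff.2 fun v _ w hw => by rw [(Submodule.mem_bot F).1 hw, H.zero_right hF]

/-- Isometries preserve orthogonal complements of invariant subspaces. -/
theorem apply_mem_perp [Finite V] {g : Module.End F V} (hg : ∀ u v, h (g u) (g v) = h u v)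
    (hi : Function.Injective g) {W : Submodule F V} (hW : ∀ w ∈ W, g w ∈ W) {v : V}
    (hv : v ∈ H.perp W) : g v ∈ H.perp W := fun w hw => by
  obtain ⟨w', e⟩ := Finite.injective_iff_surjective.1
    (show Function.Injective (g.restrict hW) from fun a b e =>
      Subtype.ext (hi (congrArg Subtype.val e))) ⟨w, hw⟩
  rw [← show g w' = w from congrArg Subtype.val e, hg, hv _ w'.2]

/-- Polarisation. -/
theorem form_eq_zero_of_self (hF : Nat.card F = q ^ 2) {a : Module.End F V}
    (ha : ∀ v, h (a v) v = 0) (u v : V) : h (a u) v = 0 := by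
  have h1 : ∀ c : F, c * h (a u) v + c ^ q * h (a v) u = 0 := fun c => by
    have := ha (c • u + v)
    rw [map_add, map_smul, H.add_left, H.add_right hF, H.add_right hF, H.smul_left, H.smul_left,
      H.smul_right hF, H.smul_right hF, ha, ha] at this
    linear_combination this
  obtain ⟨d, hd⟩ := exists_pow_q_ne hF
  have h2 := h1 1
  refine (mul_eq_zero.1 (?_ : (d ^ q - d) * _ = 0)).resolve_left (sub_ne_zero.2 hd)
  rw [one_pow] at h2
  linear_combination d ^ q * h2 - h1 d

variable (hF : Nat.card F = q ^ 2) (hnd : ∀ u, (∀ v, h u v = 0) → u = 0)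
include hF hnd

theorem nondeg_right (v : V) (hv : ∀ u, h u v = 0) : v = 0 :=
  hnd v fun u => (H.eq_zero_comm hF).1 (hv u)

omit hF in
theorem ext_left {u u' : V} (e : ∀ v, h u v = h u' v) : u = u' :=
  sub_eq_zero.1 (hnd _ fun v => by rw [H.sub_left, e, sub_self])

theorem ext_right {v v' : V} (e : ∀ u, h u v = h u v') : v = v' :=
  sub_eq_zero.1 (H.nondeg_right hF hnd _ fun u => by rw [H.sub_right hF, e, sub_self])

omit hF in
theorem injective_of_isom {g : Module.End F V} (hg : ∀ u v, h (g u) (g v) = h u v) :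
    Function.Injective g :=
  (injective_iff_map_eq_zero g).2 fun u hu => hnd u fun v => by rw [← hg, hu, H.zero_left]

theorem eq_zero_of_form_self {a : Module.End F V} (ha : ∀ v, h (a v) v = 0) : a = 0 :=
  LinearMap.ext fun u => hnd _ (H.form_eq_zero_of_self hF ha u)

theorem exists_aniso [Nontrivial V] : ∃ v, h v v ≠ 0 := by
  by_contra! h'
  exact one_ne_zero (H.eq_zero_of_form_self hF hnd (a := 1) h')

omit hF in
theorem perp_top : H.perp ⊤ = ⊥ := eq_bot_iff.2 fun v hv => hnd v fun w => hv w trivial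

theorem lin_injective : Function.Injective H.lin := fun x y e =>
  H.ext_right hF hnd fun u => LinearMap.congr_fun e u

variable [Finite V]

theorem finrank_add_finrank_perp (W : Submodule F V) :
    finrank F W + finrank F (H.perp W) = finrank F V := by
  let W' : Submodule F (Dual F V) :=
    { carrier := H.lin '' W
      add_mem' := by
        rintro _ _ ⟨a, ha, rfl⟩ ⟨b, hb, rfl⟩
        exact ⟨a + b, add_mem ha hb, LinearMap.ext fun v => H.add_right hF v a b⟩
      zero_mem' := ⟨0, zero_mem _, LinearMap.ext fun v => H.zero_right hF v⟩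
      smul_mem' := by
        rintro c _ ⟨a, ha, rfl⟩
        refine ⟨c ^ q • a, W.smul_mem _ ha, LinearMap.ext fun v => ?_⟩
        rw [lin_apply, H.smul_right hF, pow_q_pow_q hF]
        rfl }
  have h1 : Nat.card W' = Nat.card W := Nat.card_image_of_injective (H.lin_injective hF hnd) _
  have h2 : W'.dualCoannihilator = H.perp W := Submodule.ext fun v => by
    rw [Submodule.mem_dualCoannihilator, H.mem_perp]
    exact Set.forall_mem_image
  rw [Module.natCard_eq_pow_finrank (K := F), Module.natCard_eq_pow_finrank (K := F) (V := W)] at h1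
  rw [← Nat.pow_right_injective Finite.one_lt_card h1, ← h2]
  exact Subspace.finrank_add_finrank_dualCoannihilator_eq W'

/-- Riesz representation. -/
theorem exists_lin_eq (φ : Dual F V) : ∃ x, H.lin x = φ := by
  haveI : Finite (Dual F V) := Module.finite_of_finite F
  refine ((Nat.bijective_iff_injective_and_card _).2 ⟨H.lin_injective hF hnd, ?_⟩).2 φ
  rw [Module.natCard_eq_pow_finrank (K := F), Module.natCard_eq_pow_finrank (K := F) (V := Dual F V),
    Subspace.dual_finrank_eq]

theorem perp_perp (W : Submodule F V) : H.perp (H.perp W) = W := by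
  have h1 := H.finrank_add_finrank_perp hF hnd W
  have h2 := H.finrank_add_finrank_perp hF hnd (H.perp W)
  exact (Submodule.eq_of_le_of_finrank_eq (H.le_perp_perp hF W) (by omega)).symm

theorem perp_injective : Function.Injective H.perp := fun W W' e => by
  rw [← H.perp_perp hF hnd W, e, H.perp_perp hF hnd]

theorem perp_inf (W W' : Submodule F V) : H.perp (W ⊓ W') = H.perp W ⊔ H.perp W' := by
  rw [← H.perp_perp hF hnd (_ ⊔ _), H.perp_sup hF, H.perp_perp hF hnd, H.perp_perp hF hnd]

theorem isCompl_perp {W : Submodule F V} (hW : ∀ u ∈ W, (∀ v ∈ W, h u v = 0) → u = 0) :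
    IsCompl W (H.perp W) :=
  (Submodule.isCompl_iff_disjoint _ _ (H.finrank_add_finrank_perp hF hnd W).ge).2
    (Submodule.disjoint_def.2 hW)

theorem nondeg_perp {W : Submodule F V} (hW : ∀ u ∈ W, (∀ v ∈ W, h u v = 0) → u = 0) :
    ∀ u ∈ H.perp W, (∀ v ∈ H.perp W, h u v = 0) → u = 0 := fun u hu hu' =>
  hW u (H.perp_perp hF hnd W ▸ hu') hu

theorem exists_adjoint (a : Module.End F V) :
    ∃ b : Module.End F V, ∀ u v, h (a u) v = h u (b v) := by
  choose f hf using fun v => H.exists_lin_eq hF hnd (H.lin v ∘ₗ a)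
  have h1 : ∀ u v, h (a u) v = h u (f v) := fun u v => (LinearMap.congr_fun (hf v) u).symm
  refine ⟨⟨⟨f, fun v w => H.ext_right hF hnd fun u => ?_⟩, fun c v => H.ext_right hF hnd fun u => ?_⟩,
    h1⟩
  · rw [H.add_right hF, ← h1, ← h1, ← h1, H.add_right hF]
  · rw [RingHom.id_apply, H.smul_right hF, ← h1, ← h1, H.smul_right hF]

omit [Finite V] in
theorem perp_range {a b : Module.End F V} (hab : ∀ u v, h (a u) v = h u (b v)) :
    H.perp (LinearMap.range a) = LinearMap.ker b := by
  ext v
  rw [H.mem_perp' hF, LinearMap.mem_ker]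
  refine ⟨fun e => H.nondeg_right hF hnd _ fun u => ?_, ?_⟩
  · rw [← hab, e _ ⟨u, rfl⟩]
  · rintro e _ ⟨u, rfl⟩
    rw [hab, e, H.zero_right hF]

omit [Finite V] in
/-- For an isometry `g`, the fixed space is the orthogonal complement of the moved space. -/
theorem perp_range_sub_one {g : Module.End F V} (hg : ∀ u v, h (g u) (g v) = h u v)
    (hs : Function.Surjective g) : H.perp (LinearMap.range (g - 1)) = LinearMap.ker (g - 1) := by
  ext v
  rw [H.mem_perp' hF, LinearMap.mem_ker, LinearMap.sub_apply, Module.End.one_apply, sub_eq_zero]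
  refine ⟨fun e => H.ext_right hF hnd fun u => ?_, ?_⟩
  · obtain ⟨u, rfl⟩ := hs u
    have := e _ ⟨u, rfl⟩
    rw [LinearMap.sub_apply, Module.End.one_apply, H.sub_left, sub_eq_zero] at this
    rw [hg, this]
  · rintro e _ ⟨u, rfl⟩
    rw [LinearMap.sub_apply, Module.End.one_apply, H.sub_left, sub_eq_zero]
    conv_lhs => rw [← e, hg]

end Cfsg.Gun.IsHerm

set_option linter.all false in
theorem Cfsg.Rz.Gun_Perp_0 : True := by
  have := @_root_.Cfsg.Gun.IsHerm.perp.congr_simp.{0, 0}
  have := @_root_.Cfsg.Gun.IsHerm.perp.eq_def.{0, 0}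
  have := @_root_.Cfsg.Gun.IsHerm.perp.eq_1.{0, 0}
  have := @_root_.Cfsg.Gun.IsHerm.perp.fun_cases
  trivial
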