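import Cfsg.Agent.Char.MatRep
import Cfsg.Prelude.Def_Classical

/-!
# The Weil character of the unitary groups (S4537 project)

`isCharacter_weil`: for a nondegenerate hermitian form on `V` over `F` (`|F| = q²`), the function
`g ↦ (-1)^n (-q)^{dim ker (g - 1)}` on isometries is a character.  Proof: twisted group algebra of
`(V, +)` for the invariant cocycle `ψ(Tr δ h(v, w))`, which is a matrix algebra of degree `q^n`;
`T_g = ∑_v [g v][v]⁻¹` intertwines, `T_g T_h = l T_{gh}`, `|l|` comes from `T^H T` and `l` is a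
power of `-q` since hermitian Gauss sums are (`gauss_herm`).
-/

set_option autoImplicit false
set_option linter.unusedSectionVars false
set_option linter.unusedVariables false

namespace Cfsg.Gun

open Module Finset Matrix

/-- A bimultiplicative unimodular cocycle on `V` with nondegenerate commutator. -/
structure Coc (V : Type*) [AddCommGroup V] where
  c : V → V → ℂ
  add_left : ∀ a b x, c (a + b) x = c a x * c b x
  add_right : ∀ x a b, c x (a + b) = c x a * c x b
  star_mul : ∀ a b, star (c a b) * c a b = 1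
  nondeg : ∀ x, (∀ v, c x v = c v x) → x = 0

namespace Coc

variable {V : Type*} [AddCommGroup V] (K : Coc V)

theorem c_ne (a b : V) : K.c a b ≠ 0 := by
  intro h
  have := K.star_mul a b
  rw [h, mul_zero] at this
  exact zero_ne_one this

theorem c_zero_left (x : V) : K.c 0 x = 1 := by
  have := K.add_left 0 0 x
  rw [add_zero] at this
  exact (mul_eq_left₀ (K.c_ne 0 x)).1 this.symm

theorem c_zero_right (x : V) : K.c x 0 = 1 := by
  have := K.add_right x 0 0
  rw [add_zero] at this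
  exact (mul_eq_left₀ (K.c_ne x 0)).1 this.symm

theorem c_neg_left (a x : V) : K.c (-a) x = (K.c a x)⁻¹ := by
  have := K.add_left (-a) a x
  rw [neg_add_cancel, K.c_zero_left] at this
  exact eq_inv_of_mul_eq_one_left this.symm

theorem c_neg_right (a x : V) : K.c a (-x) = (K.c a x)⁻¹ := by
  have := K.add_right a (-x) x
  rw [neg_add_cancel, K.c_zero_right] at this
  exact eq_inv_of_mul_eq_one_left this.symm

theorem c_star (a x : V) : star (K.c a x) = (K.c a x)⁻¹ :=
  eq_inv_of_mul_eq_one_left (K.star_mul a x)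

theorem c_sub_left (a b x : V) : K.c (a - b) x = K.c a x * (K.c b x)⁻¹ := by
  rw [sub_eq_add_neg, K.add_left, K.c_neg_left]

theorem c_sub_right (x a b : V) : K.c x (a - b) = K.c x a * (K.c x b)⁻¹ := by
  rw [sub_eq_add_neg, K.add_right, K.c_neg_right]

variable [Fintype V] [DecidableEq V]

/-- The basis element `[v]` of the twisted group algebra, in the regular representation. -/
def E (v : V) : Matrix V V ℂ := fun x y => if x = v + y then K.c v y else 0

/-- The twisted group algebra. -/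
def alg : Subalgebra ℂ (Matrix V V ℂ) where
  carrier := {M | ∀ x y u, M (x + u) (y + u) = M x y * K.c (x - y) u}
  mul_mem' {M N} hM hN x y u := by
    rw [Matrix.mul_apply, Matrix.mul_apply, ← Equiv.sum_comp (Equiv.addRight u), Finset.sum_mul]
    refine Finset.sum_congr rfl fun z _ => ?_
    have : x - y = (x - z) + (z - y) := by abel
    rw [Equiv.coe_addRight, hM, hN, this, K.add_left]
    ring
  add_mem' {M N} hM hN x y u := by
    simp only [Matrix.add_apply]
    rw [hM, hN, add_mul]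
  algebraMap_mem' a x y u := by
    simp only [Matrix.algebraMap_matrix_apply, add_left_inj]
    split_ifs with h
    · rw [h, sub_self, K.c_zero_left, mul_one]
    · rw [zero_mul]

theorem mem_alg {M : Matrix V V ℂ} :
    M ∈ K.alg ↔ ∀ x y u, M (x + u) (y + u) = M x y * K.c (x - y) u := Iff.rfl

theorem alg_apply {M : Matrix V V ℂ} (hM : M ∈ K.alg) (x y : V) :
    M x y = M (x - y) 0 * K.c (x - y) y := by
  have := hM (x - y) 0 y
  rwa [sub_add_cancel, zero_add, sub_zero] at this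

theorem E_mem (v : V) : K.E v ∈ K.alg := by
  intro x y u
  simp only [E, ← add_assoc, add_left_inj]
  split_ifs with h
  · rw [h, add_sub_cancel_right, K.add_right]
  · rw [zero_mul]

theorem star_mem {M : Matrix V V ℂ} (hM : M ∈ K.alg) : Mᴴ ∈ K.alg := by
  intro x y u
  rw [conjTranspose_apply, conjTranspose_apply, hM, star_mul', K.c_star, ← K.c_neg_left, neg_sub]

theorem E_mul_apply (v : V) (M : Matrix V V ℂ) (x y : V) :
    (K.E v * M) x y = K.c v (x - v) * M (x - v) y := by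
  rw [Matrix.mul_apply, Finset.sum_eq_single (x - v)]
  · simp [E]
  · intro z _ hz
    have : x ≠ v + z := by
      rintro rfl
      exact hz (by abel)
    simp [E, this]
  · simp

theorem mul_E_apply (v : V) (M : Matrix V V ℂ) (x y : V) :
    (M * K.E v) x y = M x (v + y) * K.c v y := by
  rw [Matrix.mul_apply, Finset.sum_eq_single (v + y)]
  · simp [E]
  · intro z _ hz
    simp [E, hz]
  · simp

theorem E_zero : K.E 0 = 1 := by
  ext x y
  simp [E, K.c_zero_left, Matrix.one_apply]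

theorem E_mul_E (a b : V) : K.E a * K.E b = K.c a b • K.E (a + b) := by
  ext x y
  rw [mul_E_apply, Matrix.smul_apply, smul_eq_mul]
  simp only [E, add_assoc]
  split_ifs with h
  · rw [K.add_left, K.add_right]; ring
  · simp

theorem E_star (v : V) : (K.E v)ᴴ = K.c v v • K.E (-v) := by
  ext x y
  rw [conjTranspose_apply, Matrix.smul_apply, smul_eq_mul]
  simp only [E]
  by_cases h : y = v + x
  · rw [if_pos h, if_pos (by rw [h]; abel), h, K.c_star, K.c_neg_left, K.add_right]
    have := K.c_ne v v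
    have := K.c_ne v x
    field_simp
  · rw [if_neg h, if_neg (by rintro rfl; exact h (by abel))]
    simp

theorem E_mul_star (v : V) : K.E v * (K.E v)ᴴ = 1 := by
  rw [E_star, Matrix.mul_smul, E_mul_E, add_neg_cancel, E_zero, smul_smul, K.c_neg_right,
    mul_inv_cancel₀ (K.c_ne v v), one_smul]

theorem star_mul_E (v : V) : (K.E v)ᴴ * K.E v = 1 := by
  rw [E_star, Matrix.smul_mul, E_mul_E, neg_add_cancel, E_zero, smul_smul, K.c_neg_left,
    mul_inv_cancel₀ (K.c_ne v v), one_smul]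

theorem scalar_of_comm {M : Matrix V V ℂ} (hM : M ∈ K.alg) (h : ∀ v, M * K.E v = K.E v * M) :
    M = M 0 0 • (1 : Matrix V V ℂ) := by
  have h0 : ∀ x, x ≠ 0 → M x 0 = 0 := by
    intro x hx
    by_contra hne
    refine hx (K.nondeg x fun v => ?_)
    have := congrFun (congrFun (h v) (x + v)) 0
    rw [mul_E_apply, E_mul_apply, add_sub_cancel_right, K.c_zero_right, mul_one, add_comm v 0, hM,
      sub_zero, mul_comm (K.c v x)] at this
    exact mul_left_cancel₀ hne this
  ext x y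
  rw [K.alg_apply hM, Matrix.smul_apply, Matrix.one_apply, smul_eq_mul]
  split_ifs with hxy
  · rw [hxy, sub_self, K.c_zero_left]
  · rw [h0 _ (sub_ne_zero.2 hxy), zero_mul, mul_zero]

/-- The twisted average `∑_w [g w] M [w]⁻¹`. -/
noncomputable def tw (g : V →+ V) (M : Matrix V V ℂ) : Matrix V V ℂ :=
  ∑ w, K.E (g w) * M * (K.E w)ᴴ

theorem tw_mem (g : V →+ V) {M : Matrix V V ℂ} (hM : M ∈ K.alg) : K.tw g M ∈ K.alg :=
  Subalgebra.sum_mem _ fun w _ =>
    Subalgebra.mul_mem _ (Subalgebra.mul_mem _ (K.E_mem _) hM) (K.star_mem (K.E_mem _))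

theorem tw_mul_E (g : V →+ V) (hg : ∀ a b, K.c (g a) (g b) = K.c a b) (M : Matrix V V ℂ) (v : V) :
    K.tw g M * K.E v = K.E (g v) * K.tw g M := by
  rw [tw, Finset.sum_mul, Finset.mul_sum, ← Equiv.sum_comp (Equiv.addLeft v)]
  refine Finset.sum_congr rfl fun w _ => ?_
  have h1 : (K.E (v + w))ᴴ * K.E v = K.c v w • (K.E w)ᴴ := by
    rw [E_star, E_star, Matrix.smul_mul, E_mul_E, smul_smul, smul_smul, K.c_neg_left, K.add_left,
      K.add_left, K.add_right, K.add_right, show -(v + w) + v = -w by abel]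
    congr 1
    have := K.c_ne v v
    have := K.c_ne w v
    field_simp
  rw [Equiv.coe_addLeft, Matrix.mul_assoc, h1, ← Matrix.mul_assoc, ← Matrix.mul_assoc, E_mul_E,
    hg, map_add, Matrix.mul_smul, Matrix.smul_mul, Matrix.smul_mul]

theorem tw_id {M : Matrix V V ℂ} (hM : M ∈ K.alg) :
    K.tw (AddMonoidHom.id V) M = ((Fintype.card V : ℂ) * M 0 0) • (1 : Matrix V V ℂ) := by
  rw [K.scalar_of_comm (K.tw_mem _ hM) (K.tw_mul_E _ (fun _ _ => rfl) M)]
  congr 1
  rw [tw, Matrix.sum_apply, ← nsmul_eq_mul, ← Finset.card_univ, ← Finset.sum_const]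
  refine Finset.sum_congr rfl fun w _ => ?_
  have := hM 0 0 (-w)
  rw [zero_add, sub_self, K.c_zero_left, mul_one] at this
  rw [E_star, Matrix.mul_smul, Matrix.smul_apply, mul_E_apply, E_mul_apply, K.c_zero_right,
    zero_sub, add_zero, AddMonoidHom.id_apply, this, K.c_neg_right, smul_eq_mul]
  have := K.c_ne w w
  field_simp

theorem isSimpleRing : IsSimpleRing K.alg := by
  haveI : Nonempty V := ⟨0⟩
  refine IsSimpleRing.of_eq_bot_or_eq_top fun I => ?_
  by_contra hI
  push Not at hI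
  obtain ⟨h1, h2⟩ := hI
  obtain ⟨a, ha, ha0⟩ : ∃ a ∈ I, a ≠ 0 := by
    by_contra h
    push Not at h
    exact h1 (eq_bot_iff.2 fun a ha => (TwoSidedIdeal.mem_bot _).2 (h a ha))
  obtain ⟨x, hx⟩ : ∃ x, a.1 x 0 ≠ 0 := by
    by_contra h
    push Not at h
    refine ha0 (Subtype.ext ?_)
    ext x y
    rw [K.alg_apply a.2, h, zero_mul]
    rfl
  let b : K.alg := ⟨K.E (-x), K.E_mem _⟩ * a
  have hb : b ∈ I := I.mul_mem_left _ _ ha
  have hb0 : b.1 0 0 ≠ 0 := by
    change (K.E (-x) * a.1) 0 0 ≠ 0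
    rw [E_mul_apply, zero_sub, neg_neg]
    exact mul_ne_zero (K.c_ne _ _) hx
  have hs : (∑ w, (⟨K.E w, K.E_mem _⟩ : K.alg) * b * ⟨(K.E w)ᴴ, K.star_mem (K.E_mem _)⟩) ∈ I :=
    sum_mem fun w _ => I.mul_mem_right _ _ (I.mul_mem_left _ _ hb)
  have he : (∑ w, (⟨K.E w, K.E_mem _⟩ : K.alg) * b * ⟨(K.E w)ᴴ, K.star_mem (K.E_mem _)⟩) =
      ((Fintype.card V : ℂ) * b.1 0 0) • (1 : K.alg) := by
    refine Subtype.ext ?_
    rw [AddSubmonoidClass.coe_finset_sum]
    exact K.tw_id b.2
  rw [he] at hs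
  have hc : (Fintype.card V : ℂ) * b.1 0 0 ≠ 0 :=
    mul_ne_zero (Nat.cast_ne_zero.2 Fintype.card_ne_zero) hb0
  apply h2
  rw [← TwoSidedIdeal.one_mem_iff]
  have := I.mul_mem_left (((Fintype.card V : ℂ) * b.1 0 0)⁻¹ • (1 : K.alg)) _ hs
  rwa [smul_mul_smul_comm, inv_mul_cancel₀ hc, one_smul, one_mul] at this

theorem finrank_alg : finrank ℂ K.alg = Fintype.card V := by
  let f : K.alg →ₗ[ℂ] (V → ℂ) :=
    { toFun := fun a x => a.1 x 0
      map_add' := fun _ _ => rfl
      map_smul' := fun _ _ => rfl }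
  have hf : Function.Bijective f := by
    constructor
    · intro a b hab
      refine Subtype.ext ?_
      ext x y
      rw [K.alg_apply a.2, K.alg_apply b.2]
      exact congrArg (· * _) (congrFun hab (x - y))
    · intro t
      refine ⟨⟨fun x y => t (x - y) * K.c (x - y) y, fun x y u => ?_⟩, ?_⟩
      · simp only []
        rw [add_sub_add_right_eq_sub, K.add_right, mul_assoc]
      · ext x
        change t (x - 0) * K.c (x - 0) 0 = t x
        rw [K.c_zero_right, sub_zero, mul_one]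
  rw [(LinearEquiv.ofBijective f hf).finrank_eq, finrank_fintype_fun_eq_card]

theorem exists_rep : ∃ (N : ℕ) (φ : K.alg →ₐ[ℂ] Matrix (Fin N) (Fin N) ℂ),
    N ^ 2 = Fintype.card V ∧ ∀ a : K.alg, (φ a).trace = N * a.1 0 0 := by
  haveI := K.isSimpleRing
  obtain ⟨N, -, ⟨e⟩⟩ := IsSimpleRing.exists_algEquiv_matrix_of_isAlgClosed ℂ K.alg
  refine ⟨N, e, ?_, fun a => ?_⟩
  · rw [← K.finrank_alg, e.toLinearEquiv.finrank_eq, finrank_matrix]
    simp [sq]
  · have he : (∑ w, (⟨K.E w, K.E_mem _⟩ : K.alg) * a * ⟨(K.E w)ᴴ, K.star_mem (K.E_mem _)⟩) =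
        ((Fintype.card V : ℂ) * a.1 0 0) • (1 : K.alg) := by
      refine Subtype.ext ?_
      rw [AddSubmonoidClass.coe_finset_sum]
      exact K.tw_id a.2
    have h2 := congrArg (fun z => (e z).trace) he
    simp only [map_sum, map_mul, map_smul, map_one, trace_sum, trace_smul, trace_one] at h2
    have h3 : ∀ w, (e ⟨K.E w, K.E_mem _⟩ * e a * e ⟨(K.E w)ᴴ, K.star_mem (K.E_mem _)⟩).trace =
        (e a).trace := by
      intro w
      rw [trace_mul_cycle, ← map_mul]
      have : (⟨(K.E w)ᴴ, K.star_mem (K.E_mem _)⟩ * ⟨K.E w, K.E_mem _⟩ : K.alg) = 1 :=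
        Subtype.ext (K.star_mul_E w)
      rw [this, map_one, Matrix.one_mul]
    simp only [h3, Finset.sum_const, Finset.card_univ, nsmul_eq_mul, smul_eq_mul,
      Fintype.card_fin] at h2
    have hc : (Fintype.card V : ℂ) ≠ 0 := Nat.cast_ne_zero.2 Fintype.card_ne_zero
    apply mul_left_cancel₀ hc
    change _ * (e a).trace = _
    rw [h2]; ring

/-- `T_g = ∑_v [g v] [v]⁻¹`. -/
noncomputable def TT (g : V →+ V) : Matrix V V ℂ := K.tw g 1

theorem TT_mem (g : V →+ V) : K.TT g ∈ K.alg := K.tw_mem g (Subalgebra.one_mem _)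

theorem TT_eq (g : V →+ V) : K.TT g = ∑ v, K.c (v - g v) v • K.E (g v - v) := by
  rw [TT, tw]
  refine Finset.sum_congr rfl fun v _ => ?_
  rw [Matrix.mul_one, E_star, Matrix.mul_smul, E_mul_E, smul_smul, K.c_neg_right, K.c_sub_left,
    sub_eq_add_neg]

theorem TT_zero (g : V →+ V) :
    K.TT g 0 0 = ((Finset.univ.filter fun v => g v = v).card : ℂ) := by
  rw [TT_eq, Matrix.sum_apply, Finset.card_filter, Nat.cast_sum]
  refine Finset.sum_congr rfl fun v _ => ?_
  rw [Matrix.smul_apply, smul_eq_mul, E]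
  by_cases h : g v = v
  · simp [h, K.c_zero_left]
  · rw [if_neg h, if_neg (by rw [add_zero, eq_comm, sub_eq_zero]; exact h)]
    simp

theorem TT_mul_zero (g h : V →+ V) : (K.TT g * K.TT h) 0 0 =
    ∑ v, ∑ w, if g v - v + (h w - w) = 0 then
      K.c (v - g v) v * K.c (w - h w) w * K.c (g v - v) (h w - w) else 0 := by
  rw [TT_eq, TT_eq, Finset.sum_mul, Matrix.sum_apply]
  refine Finset.sum_congr rfl fun v _ => ?_
  rw [Finset.mul_sum, Matrix.sum_apply]
  refine Finset.sum_congr rfl fun w _ => ?_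
  rw [Matrix.smul_mul, Matrix.mul_smul, E_mul_E, Matrix.smul_apply, Matrix.smul_apply,
    Matrix.smul_apply, E, add_zero, K.c_zero_right]
  simp only [smul_eq_mul, eq_comm (a := (0 : V))]
  split_ifs
  · ring
  · ring

theorem star_TT_mul_E (g : V →+ V) (hg : ∀ a b, K.c (g a) (g b) = K.c a b) (v : V) :
    (K.TT g)ᴴ * K.E (g v) = K.E v * (K.TT g)ᴴ := by
  have h := congrArg conjTranspose (K.tw_mul_E g hg 1 v)
  rw [conjTranspose_mul, conjTranspose_mul] at h
  change (K.E v)ᴴ * (K.TT g)ᴴ = (K.TT g)ᴴ * (K.E (g v))ᴴ at h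
  calc (K.TT g)ᴴ * K.E (g v) = K.E v * ((K.E v)ᴴ * (K.TT g)ᴴ) * K.E (g v) := by
        rw [← Matrix.mul_assoc, E_mul_star, Matrix.one_mul]
    _ = K.E v * (K.TT g)ᴴ := by
        rw [h, Matrix.mul_assoc, Matrix.mul_assoc, star_mul_E, Matrix.mul_one]

theorem star_TT_mul_TT (g : V →+ V) (hg : ∀ a b, K.c (g a) (g b) = K.c a b) :
    (K.TT g)ᴴ * K.TT g =
      ((Fintype.card V : ℂ) * ((Finset.univ.filter fun v => g v = v).card : ℂ)) •
        (1 : Matrix V V ℂ) := by
  have h1 : (K.TT g)ᴴ * K.tw g 1 = K.tw (AddMonoidHom.id V) (K.TT g)ᴴ := by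
    rw [tw, tw, Finset.mul_sum]
    refine Finset.sum_congr rfl fun w _ => ?_
    rw [Matrix.mul_one, ← Matrix.mul_assoc, K.star_TT_mul_E g hg, AddMonoidHom.id_apply]
  refine h1.trans ?_
  rw [K.tw_id (K.star_mem (K.TT_mem g)), conjTranspose_apply, TT_zero]
  simp

theorem exists_TT_mul (g h : V →+ V) (hg : ∀ a b, K.c (g a) (g b) = K.c a b)
    (hh : ∀ a b, K.c (h a) (h b) = K.c a b) :
    ∃ l : ℂ, K.TT g * K.TT h = l • K.TT (g.comp h) := by
  have hgh : ∀ a b, K.c (g.comp h a) (g.comp h b) = K.c a b := fun a b => by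
    rw [AddMonoidHom.comp_apply, AddMonoidHom.comp_apply, hg, hh]
  have hm : (K.TT (g.comp h))ᴴ * (K.TT g * K.TT h) ∈ K.alg :=
    Subalgebra.mul_mem _ (K.star_mem (K.TT_mem _))
      (Subalgebra.mul_mem _ (K.TT_mem g) (K.TT_mem h))
  have h1 := K.scalar_of_comm hm fun v => by
    have e1 : K.TT h * K.E v = K.E (h v) * K.TT h := K.tw_mul_E h hh 1 v
    have e2 : K.TT g * K.E (h v) = K.E (g.comp h v) * K.TT g := K.tw_mul_E g hg 1 (h v)
    rw [Matrix.mul_assoc, Matrix.mul_assoc, e1, ← Matrix.mul_assoc (K.TT g), e2, Matrix.mul_assoc,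
      ← Matrix.mul_assoc, K.star_TT_mul_E _ hgh, Matrix.mul_assoc]
  have h2 := K.star_TT_mul_TT _ hgh
  set s : ℂ := (Fintype.card V : ℂ) * ((Finset.univ.filter fun v => g.comp h v = v).card : ℂ)
  have hs : s ≠ 0 := by
    refine mul_ne_zero (Nat.cast_ne_zero.2 Fintype.card_ne_zero) (Nat.cast_ne_zero.2 ?_)
    exact Finset.card_ne_zero.2 ⟨0, by simp⟩
  have h3 : K.TT (g.comp h) * (s⁻¹ • (K.TT (g.comp h))ᴴ) = 1 := by
    rw [mul_eq_one_comm, Matrix.smul_mul, h2, smul_smul, inv_mul_cancel₀ hs, one_smul]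
  refine ⟨s⁻¹ * ((K.TT (g.comp h))ᴴ * (K.TT g * K.TT h)) 0 0, ?_⟩
  calc K.TT g * K.TT h = K.TT (g.comp h) * (s⁻¹ • (K.TT (g.comp h))ᴴ) * (K.TT g * K.TT h) := by
        rw [h3, Matrix.one_mul]
    _ = _ := by
        rw [Matrix.mul_assoc, Matrix.smul_mul]
        conv_lhs => rw [h1]
        rw [smul_smul, Matrix.mul_smul, Matrix.mul_one]

theorem isCharacter_weil {G : Type*} [Group G] (ρ : G → V →+ V) (hρ1 : ρ 1 = AddMonoidHom.id V)
    (hρ : ∀ g h, ρ (g * h) = (ρ g).comp (ρ h)) (hc : ∀ g a b, K.c (ρ g a) (ρ g b) = K.c a b)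
    {q n : ℕ} (hq : 1 < q) (hV : Fintype.card V = q ^ (2 * n)) (d : G → ℕ)
    (hd : ∀ g, (Finset.univ.filter fun v => ρ g v = v).card = q ^ (2 * d g))
    (hS : ∀ g h, ∃ j : ℕ, (K.TT (ρ g) * K.TT (ρ h)) 0 0 = (-(q : ℂ)) ^ j) :
    IsCharacter G fun g => (-1) ^ n * (-(q : ℂ)) ^ d g := by
  have hq0 : (q : ℂ) ≠ 0 := Nat.cast_ne_zero.2 (by omega)
  have hq0' : -(q : ℂ) ≠ 0 := neg_ne_zero.2 hq0
  have hsq : ∀ k : ℕ, (q : ℂ) ^ (2 * k) = (-(q : ℂ)) ^ (2 * k) := fun k =>
    (Even.neg_pow (even_two_mul k) _).symm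
  have hmul : ∀ g h, K.TT (ρ g) * K.TT (ρ h) =
      ((-(q : ℂ)) ^ (n + d g + d h) / (-(q : ℂ)) ^ d (g * h)) • K.TT (ρ (g * h)) := by
    intro g h
    obtain ⟨l, hl⟩ := K.exists_TT_mul (ρ g) (ρ h) (hc g) (hc h)
    obtain ⟨j, hj⟩ := hS g h
    rw [← hρ] at hl
    rw [hl]
    congr 1
    rw [hl, Matrix.smul_apply, TT_zero, hd, smul_eq_mul] at hj
    have h1 : (K.TT (ρ g) * K.TT (ρ h))ᴴ * (K.TT (ρ g) * K.TT (ρ h)) =
        (l • K.TT (ρ (g * h)))ᴴ * (l • K.TT (ρ (g * h))) := by rw [hl]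
    rw [conjTranspose_mul, Matrix.mul_assoc, ← Matrix.mul_assoc (K.TT (ρ g))ᴴ,
      K.star_TT_mul_TT _ (hc g), Matrix.smul_mul, Matrix.one_mul, Matrix.mul_smul,
      K.star_TT_mul_TT _ (hc h), conjTranspose_smul, Matrix.smul_mul, Matrix.mul_smul,
      K.star_TT_mul_TT _ (hc _), hd, hd, hd, hV] at h1
    have h2 := congrFun (congrFun h1 0) 0
    simp only [Matrix.smul_apply, Matrix.one_apply_eq, smul_eq_mul, mul_one] at h2
    push_cast at h2 hj
    have hl' : l = (-(q : ℂ)) ^ j / (q : ℂ) ^ (2 * d (g * h)) := by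
      rw [eq_div_iff (pow_ne_zero _ hq0), hj]
    have hst : star l = l := by
      rw [hl']; simp
    rw [hst, hl'] at h2
    have h3 : (q : ℂ) ^ (2 * (n + d g + d h + d (g * h))) = (q : ℂ) ^ (2 * j) := by
      field_simp at h2
      have e : (q : ℂ) ^ (2 * j) = ((-(q : ℂ)) ^ j) ^ 2 := by
        rw [hsq j, mul_comm 2 j, pow_mul]
      rw [e, ← h2]
      ring
    have h4 : j = n + d g + d h + d (g * h) := by
      have : q ^ (2 * (n + d g + d h + d (g * h))) = q ^ (2 * j) := by exact_mod_cast h3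
      have := Nat.pow_right_injective hq this
      omega
    rw [hl', h4, hsq, pow_add _ (n + d g + d h), two_mul, pow_add _ (d (g * h))]
    field_simp
  have hd1 : d 1 = n := by
    have := hd 1
    rw [hρ1] at this
    simp only [AddMonoidHom.id_apply, Finset.filter_true, Finset.card_univ, hV] at this
    have := Nat.pow_right_injective hq this
    omega
  obtain ⟨N, φ, hN, hφ⟩ := K.exists_rep
  have hN' : N = q ^ n := by
    rw [hV, mul_comm, pow_mul] at hN
    exact Nat.pow_left_injective two_ne_zero hN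
  let W : G →* K.alg :=
    { toFun := fun g => ((-(q : ℂ)) ^ (n + d g))⁻¹ • ⟨K.TT (ρ g), K.TT_mem _⟩
      map_one' := by
        refine Subtype.ext ?_
        change ((-(q : ℂ)) ^ (n + d 1))⁻¹ • K.TT (ρ 1) = 1
        rw [hρ1, TT, K.tw_id (Subalgebra.one_mem _), hV, hd1, smul_smul, Matrix.one_apply_eq,
          mul_one, ← two_mul, ← hsq]
        push_cast
        rw [inv_mul_cancel₀ (pow_ne_zero _ hq0), one_smul]
      map_mul' := by
        intro g h
        refine Subtype.ext ?_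
        change ((-(q : ℂ)) ^ (n + d (g * h)))⁻¹ • K.TT (ρ (g * h)) =
          (((-(q : ℂ)) ^ (n + d g))⁻¹ • K.TT (ρ g)) * (((-(q : ℂ)) ^ (n + d h))⁻¹ • K.TT (ρ h))
        rw [Matrix.smul_mul, Matrix.mul_smul, hmul, smul_smul, smul_smul]
        congr 1
        simp only [pow_add]
        field_simp }
  have := isCharacter_trace ((φ : K.alg →* Matrix (Fin N) (Fin N) ℂ).comp W)
  convert this using 2 with g
  change _ = (φ (((-(q : ℂ)) ^ (n + d g))⁻¹ • ⟨K.TT (ρ g), K.TT_mem _⟩)).trace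
  rw [map_smul, trace_smul, hφ, hN']
  change _ = _ • (_ * K.TT (ρ g) 0 0)
  rw [TT_zero, hd, smul_eq_mul]
  push_cast
  rw [hsq, two_mul, pow_add, pow_add, neg_pow (q : ℂ) n]
  have : ((-1 : ℂ) ^ n) * (-1) ^ n = 1 := by rw [← mul_pow]; simp
  field_simp
  rw [sq, this]

end Coc

section Field

variable {F : Type*} [Field F] [Finite F] {q : ℕ}

theorem one_lt_q (hF : Nat.card F = q ^ 2) : 1 < q := by
  have : 1 < Nat.card F := Finite.one_lt_card
  rw [hF] at this
  by_contra h
  have : q ^ 2 ≤ 1 ^ 2 := Nat.pow_le_pow_left (by omega) 2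
  omega

theorem exists_sigma (hF : Nat.card F = q ^ 2) : ∃ σ : F →+* F, ∀ x, σ x = x ^ q := by
  haveI := Fintype.ofFinite F
  obtain ⟨p, hp, k, hpp, hk⟩ := FiniteField.card' F
  haveI : Fact p.Prime := ⟨hpp⟩
  rw [← Nat.card_eq_fintype_card, hF] at hk
  have : q ∣ p ^ (k : ℕ) := hk ▸ dvd_pow_self q two_ne_zero
  obtain ⟨j, -, rfl⟩ := (Nat.dvd_prime_pow hpp).1 this
  exact ⟨iterateFrobenius F p j, fun x => iterateFrobenius_def ..⟩

theorem pow_q_pow_q (hF : Nat.card F = q ^ 2) (x : F) : (x ^ q) ^ q = x := by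
  haveI := Fintype.ofFinite F
  rw [← pow_mul, ← sq, ← hF, Nat.card_eq_fintype_card, FiniteField.pow_card]

theorem add_pow_q (hF : Nat.card F = q ^ 2) (x y : F) : (x + y) ^ q = x ^ q + y ^ q := by
  obtain ⟨σ, hσ⟩ := exists_sigma hF
  rw [← hσ, ← hσ, ← hσ, map_add]

theorem neg_pow_q (hF : Nat.card F = q ^ 2) (x : F) : (-x) ^ q = -x ^ q := by
  obtain ⟨σ, hσ⟩ := exists_sigma hF
  rw [← hσ, ← hσ, map_neg]

theorem sub_pow_q (hF : Nat.card F = q ^ 2) (x y : F) : (x - y) ^ q = x ^ q - y ^ q := by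
  obtain ⟨σ, hσ⟩ := exists_sigma hF
  rw [← hσ, ← hσ, ← hσ, map_sub]

theorem zero_pow_q (hF : Nat.card F = q ^ 2) : (0 : F) ^ q = 0 :=
  zero_pow (by have := one_lt_q hF; omega)

theorem card_units_q (hF : Nat.card F = q ^ 2) : Nat.card Fˣ = (q + 1) * (q - 1) := by
  have := one_lt_q hF
  rw [Nat.card_units, hF, ← Nat.sq_sub_sq, one_pow]

/-- The norm `t ↦ t ^ (q + 1)` maps onto the fixed field. -/
theorem exists_norm_eq (hF : Nat.card F = q ^ 2) {a : F} (ha : a ^ q = a) :
    ∃ t : F, t * t ^ q = a := by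
  have hq := one_lt_q hF
  rcases eq_or_ne a 0 with rfl | h0
  · exact ⟨0, zero_mul _⟩
  obtain ⟨g, hg⟩ := IsCyclic.exists_generator (α := Fˣ)
  obtain ⟨k, hk⟩ := (mem_powers_iff_mem_zpowers.2 (hg (Units.mk0 a h0)))
  have hk : g ^ k = Units.mk0 a h0 := hk
  have h1 : g ^ (k * (q - 1)) = 1 := by
    rw [pow_mul, hk]
    ext
    rw [Units.val_pow_eq_pow_val, Units.val_mk0, Units.val_one]
    apply mul_right_cancel₀ h0
    rw [← pow_succ, Nat.sub_add_cancel hq.le, ha, one_mul]
  rw [← orderOf_dvd_iff_pow_eq_one, orderOf_eq_card_of_forall_mem_zpowers hg, card_units_q hF] at h1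
  obtain ⟨m, rfl⟩ := Nat.dvd_of_mul_dvd_mul_right (by omega) h1
  refine ⟨(g ^ m : Fˣ), ?_⟩
  rw [← pow_succ', ← Units.val_pow_eq_pow_val, ← pow_mul, mul_comm, hk, Units.val_mk0]

theorem card_fixed_q (hF : Nat.card F = q ^ 2) : Nat.card {a : F // a ^ q = a} = q := by
  classical
  have hq := one_lt_q hF
  have h1 := IsCyclic.card_powMonoidHom_ker Fˣ (q - 1)
  rw [card_units_q hF, Nat.gcd_mul_left_left] at h1
  let e : {a : F // a ^ q = a} ≃ Option (powMonoidHom (q - 1) : Fˣ →* Fˣ).ker :=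
    { toFun := fun a => if h : a.1 = 0 then none else some ⟨Units.mk0 a.1 h, by
        rw [MonoidHom.mem_ker, powMonoidHom_apply]
        ext
        rw [Units.val_pow_eq_pow_val, Units.val_mk0, Units.val_one]
        apply mul_right_cancel₀ h
        rw [← pow_succ, Nat.sub_add_cancel hq.le, a.2, one_mul]⟩
      invFun := fun o => o.elim ⟨0, zero_pow_q hF⟩ fun u => ⟨u.1, by
        have := u.2
        rw [MonoidHom.mem_ker, powMonoidHom_apply] at this
        have e : (u.1 : F) ^ q = (u.1 : F) ^ (q - 1 + 1) := by rw [Nat.sub_add_cancel hq.le]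
        rw [e, pow_succ, ← Units.val_pow_eq_pow_val, this, Units.val_one, one_mul]⟩
      left_inv := fun a => by
        by_cases h : a.1 = 0
        · simp only [h, dif_pos, Option.elim_none]
          exact Subtype.ext h.symm
        · simp [h]
      right_inv := fun o => by
        cases o with
        | none => simp
        | some u => simp }
  rw [Nat.card_congr e, Finite.card_option, h1]
  omega

theorem exists_pow_q_ne (hF : Nat.card F = q ^ 2) : ∃ d : F, d ^ q ≠ d := by
  by_contra h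
  push Not at h
  have h1 := card_fixed_q hF
  rw [Nat.card_congr (Equiv.subtypeUnivEquiv h), hF] at h1
  have := one_lt_q hF
  nlinarith

theorem exists_trace_ne_zero (hF : Nat.card F = q ^ 2) : ∃ t : F, t + t ^ q ≠ 0 := by
  by_contra h
  push Not at h
  obtain ⟨d, hd⟩ := exists_pow_q_ne hF
  have h1 := h 1
  rw [one_pow] at h1
  exact hd (by linear_combination h d - d * h1)

theorem exists_addChar_trace (hF : Nat.card F = q ^ 2) :
    ∃ ψ : AddChar F ℂ, ∃ t : F, ψ (t + t ^ q) ≠ 1 := by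
  obtain ⟨t, ht⟩ := exists_trace_ne_zero hF
  obtain ⟨ψ, hψ⟩ := (AddChar.exists_apply_ne_zero (a := t + t ^ q)).2 ht
  exact ⟨ψ, t, hψ⟩

theorem sum_fixed_addChar [Fintype F] [DecidableEq F] (hF : Nat.card F = q ^ 2) (ψ : AddChar F ℂ)
    (hψ : ∃ b : F, b ^ q = b ∧ ψ b ≠ 1) {a : F} (ha0 : a ≠ 0) (ha : a ^ q = a) :
    ∑ b ∈ Finset.univ.filter (fun b : F => b ^ q = b), ψ (a * b) = 0 := by
  obtain ⟨b₀, hb₀, hψ⟩ := hψ
  have h1 : ∑ b ∈ Finset.univ.filter (fun b : F => b ^ q = b), ψ (a * b) =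
      ψ b₀ * ∑ b ∈ Finset.univ.filter (fun b : F => b ^ q = b), ψ (a * b) := by
    rw [Finset.mul_sum]
    symm
    refine Finset.sum_bij (fun b _ => b + b₀ / a) ?_ ?_ ?_ ?_
    · intro b hb
      rw [Finset.mem_filter] at hb ⊢
      refine ⟨Finset.mem_univ _, ?_⟩
      rw [add_pow_q hF, hb.2, div_pow, hb₀, ha]
    · intro b _ b' _ h
      exact add_right_cancel h
    · intro b hb
      refine ⟨b - b₀ / a, ?_, sub_add_cancel _ _⟩
      rw [Finset.mem_filter] at hb ⊢
      refine ⟨Finset.mem_univ _, ?_⟩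
      rw [sub_pow_q hF, hb.2, div_pow, hb₀, ha]
    · intro b _
      rw [← AddChar.map_add_eq_mul, mul_add, mul_div_cancel₀ _ ha0, add_comm]
  by_contra h
  exact hψ ((mul_eq_right₀ h).1 h1.symm)

/-- The rank one hermitian Gauss sum. -/
theorem gauss_one [Fintype F] (hF : Nat.card F = q ^ 2) (ψ : AddChar F ℂ)
    (hψ : ∃ b : F, b ^ q = b ∧ ψ b ≠ 1) {a : F} (ha0 : a ≠ 0) (ha : a ^ q = a) :
    ∑ t : F, ψ (t * t ^ q * a) = -(q : ℂ) := by
  classical
  have hq := one_lt_q hF
  have h1 : ∀ b : F, b ≠ 0 → b ^ q = b → ∑ t : F, ψ (t * t ^ q * b) = ∑ t : F, ψ (t * t ^ q) := by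
    intro b hb0 hb
    obtain ⟨s, rfl⟩ := exists_norm_eq hF hb
    have hs : s ≠ 0 := left_ne_zero_of_mul hb0
    rw [← Equiv.sum_comp (Equiv.mulRight₀ s hs) (fun t => ψ (t * t ^ q))]
    refine Finset.sum_congr rfl fun t _ => ?_
    rw [Equiv.mulRight₀_apply, mul_pow]
    congr 1
    ring
  set S := Finset.univ.filter (fun b : F => b ^ q = b) with hS
  have hSc : S.card = q := by
    rw [← card_fixed_q hF, Nat.card_eq_fintype_card, Fintype.card_subtype]
  have h0 : (0 : F) ∈ S := by simp [hS, zero_pow_q hF]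
  have h2 : ∑ b ∈ S, ∑ t : F, ψ (t * t ^ q * b) = q := by
    rw [Finset.sum_comm, Finset.sum_eq_single 0]
    · simp [hSc]
    · intro t _ ht
      refine sum_fixed_addChar hF ψ hψ (mul_ne_zero ht (pow_ne_zero _ ht)) ?_
      rw [mul_pow, pow_q_pow_q hF, mul_comm]
    · simp
  rw [← Finset.add_sum_erase _ _ h0, Finset.sum_congr rfl (fun b hb => h1 b
    (Finset.ne_of_mem_erase hb) (Finset.mem_filter.1 (Finset.mem_of_mem_erase hb)).2),
    Finset.sum_const, Finset.card_erase_of_mem h0, hSc] at h2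
  simp only [mul_zero, AddChar.map_zero_eq_one, Finset.sum_const, Finset.card_univ, nsmul_eq_mul,
    mul_one, ← Nat.card_eq_fintype_card, hF] at h2
  rw [h1 a ha0 ha]
  have h3 : ((q - 1 : ℕ) : ℂ) = q - 1 := by rw [Nat.cast_sub hq.le, Nat.cast_one]
  have h4 : (q : ℂ) - 1 ≠ 0 := by rw [← h3]; exact Nat.cast_ne_zero.2 (by omega)
  rw [h3] at h2
  apply mul_left_cancel₀ h4
  push_cast at h2
  linear_combination h2

end Field

/-- A hermitian form (linear in the first variable; possibly degenerate). -/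
structure IsHerm {F : Type*} [Field F] {V : Type*} [AddCommGroup V] [Module F V] (q : ℕ)
    (h : V → V → F) : Prop where
  add_left : ∀ u v w, h (u + v) w = h u w + h v w
  smul_left : ∀ (a : F) u v, h (a • u) v = a * h u v
  symm : ∀ u v, h v u = h u v ^ q

namespace IsHerm

variable {F : Type*} [Field F] [Finite F] {q : ℕ} {V : Type*} [AddCommGroup V] [Module F V]
  {h : V → V → F} (H : IsHerm q h)
include H

theorem zero_left (v : V) : h 0 v = 0 := by
  have := H.smul_left 0 0 v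
  rwa [zero_smul, zero_mul] at this

theorem neg_left (u v : V) : h (-u) v = -h u v := by
  rw [← neg_one_smul F u, H.smul_left, neg_one_mul]

theorem sub_left (u v w : V) : h (u - v) w = h u w - h v w := by
  rw [sub_eq_add_neg, H.add_left, H.neg_left, sub_eq_add_neg]

theorem smul_right (hF : Nat.card F = q ^ 2) (a : F) (u v : V) : h u (a • v) = a ^ q * h u v := by
  rw [H.symm, H.smul_left, mul_pow, ← H.symm]

theorem add_right (hF : Nat.card F = q ^ 2) (u v w : V) : h u (v + w) = h u v + h u w := by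
  rw [H.symm, H.add_left, add_pow_q hF, ← H.symm, ← H.symm]

theorem zero_right (hF : Nat.card F = q ^ 2) (v : V) : h v 0 = 0 := by
  rw [H.symm, H.zero_left, zero_pow_q hF]

theorem neg_right (hF : Nat.card F = q ^ 2) (u v : V) : h u (-v) = -h u v := by
  rw [H.symm, H.neg_left, neg_pow_q hF, ← H.symm]

theorem sub_right (hF : Nat.card F = q ^ 2) (u v w : V) : h u (v - w) = h u v - h u w := by
  rw [sub_eq_add_neg, H.add_right hF, H.neg_right hF, sub_eq_add_neg]

theorem self_pow (v : V) : h v v ^ q = h v v := (H.symm v v).symm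

/-- `v ↦ h v x` as a linear form. -/
def lin (x : V) : V →ₗ[F] F where
  toFun v := h v x
  map_add' u v := H.add_left u v x
  map_smul' a v := H.smul_left a v x

@[simp] theorem lin_apply (x v : V) : H.lin x v = h v x := rfl

theorem comp {W : Type*} [AddCommGroup W] [Module F W] (f : W →ₗ[F] V) :
    IsHerm q fun u v => h (f u) (f v) where
  add_left u v w := by rw [map_add, H.add_left]
  smul_left a u v := by rw [map_smul, H.smul_left]
  symm u v := H.symm _ _

end IsHerm

/-- Hermitian Gauss sums are powers of `-q`. -/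
theorem gauss_herm {F : Type*} [Field F] [Finite F] {q : ℕ} (hF : Nat.card F = q ^ 2)
    (ψ : AddChar F ℂ) (hψ : ∃ b : F, b ^ q = b ∧ ψ b ≠ 1) (n : ℕ) :
    ∀ (V : Type*) [AddCommGroup V] [Module F V] [Fintype V] (h : V → V → F), IsHerm q h →
      finrank F V = n → ∃ j : ℕ, ∑ x, ψ (h x x) = (-(q : ℂ)) ^ j := by
  classical
  haveI := Fintype.ofFinite F
  induction n using Nat.strong_induction_on with
  | _ n ih =>
  intro V _ _ _ h H hn
  by_cases h0 : ∀ x, h x x = 0
  · refine ⟨2 * n, ?_⟩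
    simp only [h0, AddChar.map_zero_eq_one, Finset.sum_const, Finset.card_univ, nsmul_eq_mul,
      mul_one]
    rw [Module.card_eq_pow_finrank (K := F), hn, ← Nat.card_eq_fintype_card, hF, ← pow_mul,
      Even.neg_pow (even_two_mul n)]
    push_cast
    rfl
  push Not at h0
  obtain ⟨x₀, hx₀⟩ := h0
  let W := LinearMap.ker (H.lin x₀)
  have hW : finrank F W < n := by
    rw [← hn]
    refine Submodule.finrank_lt fun ht => hx₀ ?_
    have : x₀ ∈ W := ht ▸ Submodule.mem_top
    exact this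
  obtain ⟨j, hj⟩ := ih _ hW W (fun u v => h u v) (H.comp W.subtype) rfl
  refine ⟨j + 1, ?_⟩
  have hb : Function.Bijective fun p : F × W => p.1 • x₀ + (p.2 : V) := by
    constructor
    · rintro ⟨t, y⟩ ⟨t', y'⟩ he
      have h1 := congrArg (fun v => h v x₀) he
      have hy : h y x₀ = 0 := y.2
      have hy' : h y' x₀ = 0 := y'.2
      simp only [H.add_left, H.smul_left, hy, hy', add_zero] at h1
      have h2 : t = t' := mul_right_cancel₀ hx₀ h1
      subst h2
      exact Prod.ext rfl (Subtype.ext (add_left_cancel he))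
    · intro v
      refine ⟨(h v x₀ / h x₀ x₀, ⟨v - (h v x₀ / h x₀ x₀) • x₀, ?_⟩), add_sub_cancel _ _⟩
      change h _ x₀ = 0
      rw [H.sub_left, H.smul_left, div_mul_cancel₀ _ hx₀, sub_self]
  rw [← hb.sum_comp, Fintype.sum_prod_type, pow_succ', ← hj,
    ← gauss_one hF ψ hψ hx₀ (H.self_pow x₀), Finset.sum_mul_sum]
  refine Finset.sum_congr rfl fun t _ => Finset.sum_congr rfl fun y _ => ?_
  have hy : h y x₀ = 0 := y.2
  have hy' : h x₀ y = 0 := by rw [H.symm, hy, zero_pow_q hF]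
  rw [← AddChar.map_add_eq_mul]
  congr 1
  simp only [H.add_left, H.add_right hF, H.smul_left, H.smul_right hF, hy, hy']
  ring

/-- **The Weil character** of a unitary group. -/
theorem isCharacter_weil {F : Type*} [Field F] [Finite F] {q : ℕ} (hF : Nat.card F = q ^ 2)
    {V : Type*} [AddCommGroup V] [Module F V] [Finite V] {h : V → V → F} (H : IsHerm q h)
    (hnd : ∀ u, (∀ v, h u v = 0) → u = 0) {G : Type*} [Group G] (ρ : G →* Module.End F V)
    (hρ : ∀ g u v, h (ρ g u) (ρ g v) = h u v) :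
    IsCharacter G fun g =>
      (-1) ^ finrank F V * (-(q : ℂ)) ^ finrank F (LinearMap.ker (ρ g - 1)) := by
  classical
  haveI := Fintype.ofFinite F
  haveI := Fintype.ofFinite V
  have hq := one_lt_q hF
  obtain ⟨ψ, t₀, hψ⟩ := exists_addChar_trace hF
  obtain ⟨δ, hδ⟩ := exists_pow_q_ne hF
  let K : Coc V :=
    { c := fun a b => ψ (δ * h a b + (δ * h a b) ^ q)
      add_left := fun a b x => by
        rw [← AddChar.map_add_eq_mul, H.add_left, mul_add, add_pow_q hF]
        congr 1; ring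
      add_right := fun x a b => by
        rw [← AddChar.map_add_eq_mul, H.add_right hF, mul_add, add_pow_q hF]
        congr 1; ring
      star_mul := fun a b => by
        rw [Complex.star_def, ← AddChar.map_neg_eq_conj, ← AddChar.map_add_eq_mul, neg_add_cancel,
          AddChar.map_zero_eq_one]
      nondeg := fun x hx => by
        refine hnd x fun v => ?_
        by_contra hv
        have hd : δ - δ ^ q ≠ 0 := sub_ne_zero.2 hδ.symm
        have := hx ((t₀ / ((δ - δ ^ q) * h x v)) ^ q • v)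
        rw [H.symm x, H.smul_right hF, pow_q_pow_q hF] at this
        set s := t₀ / ((δ - δ ^ q) * h x v) * h x v with hs
        have ht : t₀ = (δ - δ ^ q) * s := by rw [hs]; field_simp
        apply hψ
        rw [← div_eq_one_iff_eq (ψ.val_isUnit _).ne_zero, ← AddChar.map_sub_eq_div] at this
        rw [← this, ht]
        congr 1
        simp only [mul_pow, sub_pow_q hF, pow_q_pow_q hF]
        ring }
  refine K.isCharacter_weil (fun g => (ρ g).toAddMonoidHom) (by ext; simp)
    (fun g g' => by ext; simp) (fun g a b => by simp [K, hρ]) hq (n := finrank F V) ?_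
    (fun g => finrank F (LinearMap.ker (ρ g - 1))) (fun g => ?_) (fun g g' => ?_)
  · rw [Module.card_eq_pow_finrank (K := F), ← Nat.card_eq_fintype_card, hF, ← pow_mul]
  · rw [pow_mul, ← hF, ← Module.natCard_eq_pow_finrank, Nat.card_eq_fintype_card,
      Fintype.card_subtype]
    congr 1
    ext v
    rw [Finset.mem_filter, Finset.mem_filter, LinearMap.mem_ker, LinearMap.sub_apply, sub_eq_zero]
    rfl
  · let L : V × V →ₗ[F] V := LinearMap.coprod (ρ g - 1) (ρ g' - 1)
    let s : V × V → V × V → F := fun x y => δ * (h (x.1 - ρ g x.1) y.1 + h (x.2 - ρ g' x.2) y.2 +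
      h (ρ g x.1 - x.1) (ρ g' y.2 - y.2))
    have H2 : IsHerm q fun x y => s x y + s y x ^ q :=
      { add_left := fun u v w => by
          simp only [s, Prod.fst_add, Prod.snd_add, map_add, H.add_left, H.sub_left,
            H.add_right hF, H.sub_right hF, mul_pow, add_pow_q hF, sub_pow_q hF]
          ring
        smul_left := fun a u v => by
          simp only [s, Prod.smul_fst, Prod.smul_snd, map_smul, H.smul_left, H.sub_left,
            H.smul_right hF, H.sub_right hF, mul_pow, add_pow_q hF, sub_pow_q hF, pow_q_pow_q hF]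
          ring
        symm := fun u v => by
          rw [add_pow_q hF, pow_q_pow_q hF, add_comm] }
    obtain ⟨j, hj⟩ := gauss_herm hF ψ
      ⟨t₀ + t₀ ^ q, by rw [add_pow_q hF, pow_q_pow_q hF, add_comm], hψ⟩ _ (LinearMap.ker L) _
      (H2.comp (LinearMap.ker L).subtype) rfl
    refine ⟨j, ?_⟩
    rw [← hj, K.TT_mul_zero, ← Fintype.sum_prod_type', ← Finset.sum_filter]
    rw [Finset.sum_subtype (p := fun x => x ∈ LinearMap.ker L)
      (F := inferInstance) _ (fun x => by rw [Finset.mem_filter]; simp [L])]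
    refine Finset.sum_congr rfl fun x _ => ?_
    simp only [K, s, ← AddChar.map_add_eq_mul, Submodule.subtype_apply,
      LinearMap.toAddMonoidHom_coe, mul_add, add_pow_q hF]
    congr 1
    ring

/-- The Weil character of a matrix group preserving `hermForm`. -/
theorem isHerm_hermForm {F : Type*} [Field F] [Finite F] {q : ℕ} (hF : Nat.card F = q ^ 2) (n : ℕ) :
    IsHerm q (hermForm n F q) where
  add_left u v w := by simp [hermForm, add_mul, Finset.sum_add_distrib]
  smul_left a u v := by simp [hermForm, Finset.mul_sum, mul_assoc]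
  symm u v := by
    obtain ⟨σ, hσ⟩ := exists_sigma hF
    simp only [hermForm]
    rw [← hσ, map_sum]
    refine Finset.sum_congr rfl fun i _ => ?_
    rw [map_mul, hσ, hσ, pow_q_pow_q hF, mul_comm]

theorem hermForm_nondeg {F : Type*} [Field F] [Finite F] {q : ℕ} (hF : Nat.card F = q ^ 2) (n : ℕ)
    (u : Fin n → F) (hu : ∀ v, hermForm n F q u v = 0) : u = 0 := by
  ext i
  have := hu (Pi.single i 1)
  rw [hermForm, Finset.sum_eq_single i] at this
  · simpa using this
  · intro j _ hj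
    rw [Pi.single_eq_of_ne hj, zero_pow_q hF, mul_zero]
  · simp

end Cfsg.Gun

set_option linter.all false in
theorem Cfsg.Rz.Gun_Weil_0 : True := by
  have := @_root_.Cfsg.Gun.Coc.tw.congr_simp.{0}
  have := @_root_.Cfsg.Gun.Coc.tw.eq_def.{0}
  have := @_root_.Cfsg.Gun.Coc.tw.fun_cases
  have := @_root_.Cfsg.Gun.Coc.TT.congr_simp.{0}
  have := @_root_.Cfsg.Gun.Coc.TT.eq_def.{0}
  have := @_root_.Cfsg.Gun.Coc.TT.fun_cases
  have := @_root_.Cfsg.Gun.Coc.alg.eq_def.{0}
  have := @_root_.Cfsg.Gun.Coc.alg.eq_1.{0}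
  have := @_root_.Cfsg.Gun.Coc.alg.fun_cases
  have := @_root_.Cfsg.Gun.Coc.mk.congr_simp.{0}
  have := @_root_.Cfsg.Gun.Coc.E.eq_def.{0}
  have := @_root_.Cfsg.Gun.Coc.E.fun_cases.{0}
  have := @_root_.Cfsg.Gun.IsHerm.mk.congr_simp.{0, 0}
  have := @_root_.Cfsg.Gun.IsHerm.lin.congr_simp.{0, 0}
  have := @_root_.Cfsg.Gun.IsHerm.lin.eq_def.{0, 0}
  have := @_root_.Cfsg.Gun.IsHerm.lin.eq_1.{0, 0}
  have := @_root_.Cfsg.Gun.IsHerm.lin.fun_cases
  trivial
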